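import Cfsg.Agent.Lib.H16.G24M.ModTw

set_option autoImplicit false
set_option maxRecDepth 100000

/-! # The relations among the twist symbols (generated) -/

namespace Cfsg.Agent.Lib.H16.G24M.C2

theorem rel_alg_add {M : Type*} [AddCommGroup M] (a0 a1 a2 a3 a4 a5 a6 a7 : M)
    (n0 : (2764800 : ℤ) • a0 = 0)
    (n1 : (2764800 : ℤ) • a1 = 0)
    (n2 : (2764800 : ℤ) • a2 = 0)
    (n3 : (2764800 : ℤ) • a3 = 0)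
    (n4 : (2764800 : ℤ) • a4 = 0)
    (n5 : (2764800 : ℤ) • a5 = 0)
    (n6 : (2764800 : ℤ) • a6 = 0)
    (n7 : (2764800 : ℤ) • a7 = 0)
    (h0 : (0 : ℤ) • a0 + ((0 : ℤ) • a1 + ((0 : ℤ) • a2 + ((0 : ℤ) • a3 + ((0 : ℤ) • a4 + ((0 : ℤ) • a5 + ((0 : ℤ) • a6 + ((2764799 : ℤ) • a7 + 0))))))) = 0)
    (h1 : (0 : ℤ) • a0 + ((2764799 : ℤ) • a1 + ((0 : ℤ) • a2 + ((0 : ℤ) • a3 + ((0 : ℤ) • a4 + ((0 : ℤ) • a5 + ((0 : ℤ) • a6 + ((0 : ℤ) • a7 + 0))))))) = 0)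
    (h2 : (0 : ℤ) • a0 + ((0 : ℤ) • a1 + ((0 : ℤ) • a2 + ((0 : ℤ) • a3 + ((0 : ℤ) • a4 + ((0 : ℤ) • a5 + ((2 : ℤ) • a6 + ((0 : ℤ) • a7 + 0))))))) = 0)
    (h3 : (0 : ℤ) • a0 + ((0 : ℤ) • a1 + ((2764799 : ℤ) • a2 + ((0 : ℤ) • a3 + ((0 : ℤ) • a4 + ((2764799 : ℤ) • a5 + ((0 : ℤ) • a6 + ((2764799 : ℤ) • a7 + 0))))))) = 0)
    (h4 : (0 : ℤ) • a0 + ((2764799 : ℤ) • a1 + ((0 : ℤ) • a2 + ((0 : ℤ) • a3 + ((0 : ℤ) • a4 + ((0 : ℤ) • a5 + ((2764799 : ℤ) • a6 + ((1 : ℤ) • a7 + 0))))))) = 0)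
    (h5 : (0 : ℤ) • a0 + ((88 : ℤ) • a1 + ((5 : ℤ) • a2 + ((2764799 : ℤ) • a3 + ((3 : ℤ) • a4 + ((8 : ℤ) • a5 + ((0 : ℤ) • a6 + ((8 : ℤ) • a7 + 0))))))) = 0)
    (h6 : (2764799 : ℤ) • a0 + ((52 : ℤ) • a1 + ((2764797 : ℤ) • a2 + ((0 : ℤ) • a3 + ((2764799 : ℤ) • a4 + ((2764797 : ℤ) • a5 + ((2 : ℤ) • a6 + ((54 : ℤ) • a7 + 0))))))) = 0)
    (h7 : (2764797 : ℤ) • a0 + ((2764693 : ℤ) • a1 + ((2764797 : ℤ) • a2 + ((0 : ℤ) • a3 + ((1 : ℤ) • a4 + ((3 : ℤ) • a5 + ((1 : ℤ) • a6 + ((7 : ℤ) • a7 + 0))))))) = 0)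
    (h8 : (2764524 : ℤ) • a0 + ((2755776 : ℤ) • a1 + ((2751608 : ℤ) • a2 + ((2764464 : ℤ) • a3 + ((2764105 : ℤ) • a4 + ((2750469 : ℤ) • a5 + ((2758826 : ℤ) • a6 + ((8269 : ℤ) • a7 + 0))))))) = 0)
    : (2 : ℤ) • a0 = 0 ∧ a1 = 0 ∧ a2 = a0 ∧ a3 = 0 ∧ a4 = a0 ∧ a5 = a0 ∧ a6 = 0 ∧ a7 = 0 := by
  refine ⟨?_, ?_, ?_, ?_, ?_, ?_, ?_, ?_⟩
  · linear_combination (norm := module) (2126186 : ℤ) • n0 + (1204280 : ℤ) • n1 + (2327404 : ℤ) • n2 + (1063075 : ℤ) • n3 + (1700474 : ℤ) • n4 + (1901360 : ℤ) • n5 + (639109 : ℤ) • n6 + (-22135 : ℤ) • n7 + (233140 : ℤ) • h0 + (-141076 : ℤ) • h1 + (-748203 : ℤ) • h2 + (-207180 : ℤ) • h3 + (634197 : ℤ) • h4 + (212832 : ℤ) • h5 + (-424733 : ℤ) • h6 + (-425519 : ℤ) • h7 + (-1276062 : ℤ) • h8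
  · linear_combination (norm := module) (1 : ℤ) • n1 + (-1 : ℤ) • h1
  · linear_combination (norm := module) (-3615020 : ℤ) • n0 + (-3768342 : ℤ) • n1 + (-4243500 : ℤ) • n2 + (-425096 : ℤ) • n3 + (-2338661 : ℤ) • n4 + (-2966865 : ℤ) • n5 + (-1914991 : ℤ) • n6 + (18436 : ℤ) • n7 + (-655093 : ℤ) • h0 + (578372 : ℤ) • h1 + (-528497 : ℤ) • h2 + (633450 : ℤ) • h3 + (853903 : ℤ) • h4 + (-638160 : ℤ) • h5 + (1275544 : ℤ) • h6 + (1276199 : ℤ) • h7 + (1063385 : ℤ) • h8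
  · linear_combination (norm := module) (-1063091 : ℤ) • n0 + (-601913 : ℤ) • n1 + (218696 : ℤ) • n2 + (-1913936 : ℤ) • n3 + (-850236 : ℤ) • n4 + (431717 : ℤ) • n5 + (-1701959 : ℤ) • n6 + (11198 : ℤ) • n7 + (1265694 : ℤ) • h0 + (-1312138 : ℤ) • h1 + (1065306 : ℤ) • h2 + (-1278809 : ℤ) • h3 + (1065306 : ℤ) • h4 + (1275983 : ℤ) • h5 + (212364 : ℤ) • h6 + (212760 : ℤ) • h7 + (638031 : ℤ) • h8
  · linear_combination (norm := module) (-2126185 : ℤ) • n0 + (-1204228 : ℤ) • n1 + (-2327406 : ℤ) • n2 + (-1063075 : ℤ) • n3 + (-1700473 : ℤ) • n4 + (-1901362 : ℤ) • n5 + (-639111 : ℤ) • n6 + (22187 : ℤ) • n7 + (-233195 : ℤ) • h0 + (141022 : ℤ) • h1 + (748205 : ℤ) • h2 + (207183 : ℤ) • h3 + (-634195 : ℤ) • h4 + (-212832 : ℤ) • h5 + (424732 : ℤ) • h6 + (425519 : ℤ) • h7 + (1276062 : ℤ) • h8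
  · linear_combination (norm := module) (1488834 : ℤ) • n0 + (-200737 : ℤ) • n1 + (1916097 : ℤ) • n2 + (-637979 : ℤ) • n3 + (638187 : ℤ) • n4 + (1065506 : ℤ) • n5 + (-1488917 : ℤ) • n6 + (3698 : ℤ) • n7 + (421954 : ℤ) • h0 + (-437296 : ℤ) • h1 + (1276700 : ℤ) • h2 + (-426271 : ℤ) • h3 + (1276700 : ℤ) • h4 + (425328 : ℤ) • h5 + (-850811 : ℤ) • h6 + (-850680 : ℤ) • h7 + (212677 : ℤ) • h8
  · linear_combination (norm := module) (-1 : ℤ) • n7 + (1 : ℤ) • h0 + (-1 : ℤ) • h1 + (-1382399 : ℤ) • h2 + (1 : ℤ) • h4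
  · linear_combination (norm := module) (1 : ℤ) • n7 + (-1 : ℤ) • h0

end Cfsg.Agent.Lib.H16.G24M.C2
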