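import Cfsg.Agent.Lib.H16.G24M.C2.Data

set_option autoImplicit false
set_option maxRecDepth 100000

/-! # Word lists of the monomial certificate (generated) -/

namespace Cfsg.Agent.Lib.H16.G24M.C2

open Cfsg.Agent.Lib.H17.CosetCert (BT WT)
open Cfsg.Agent.Lib.H17.MonoCert
open Cfsg.Agent.Lib.H16.G24M

/-- the exact relators -/
def exactL : List (List ℕ) := [[0, 0, 0, 0, 0, 0, 0, 0, 0, 0, 0, 0, 0], [2, 2, 2, 2, 2, 2, 2, 2, 2, 2, 2, 2, 2], [4, 4, 4, 4, 4, 4, 4, 4, 4, 4, 4, 4, 4], [1, 1, 3, 1, 3, 1, 1, 3, 1, 3], [1, 1, 2, 1, 1, 2, 2, 1, 2, 2], [1, 3, 1, 3, 1, 3, 1, 3, 1, 3], [1, 3, 1, 3, 1, 2, 0, 2, 0, 2], [1, 3, 1, 3, 3, 1, 3, 1, 3, 3], [1, 2, 1, 2, 1, 2, 1, 2, 1, 2], [1, 1, 1, 3, 1, 3, 1, 2, 1, 3, 1, 3], [1, 1, 3, 1, 3, 1, 2, 2, 0, 2, 0, 2], [1, 1, 3, 0, 3, 3,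 0, 0, 2, 1, 2, 2], [1, 1, 2, 1, 3, 3, 0, 0, 3, 0, 2, 2], [1, 1, 2, 0, 2, 0, 2, 2, 1, 3, 1, 3], [1, 3, 1, 3, 3, 3, 1, 3, 1, 3, 0, 3], [1, 1, 1, 1, 3, 1, 3, 1, 2, 2, 1, 3, 1, 3], [1, 1, 1, 1, 2, 2, 0, 3, 1, 1, 2, 2, 2, 2], [1, 1, 1, 1, 2, 2, 2, 2, 1, 1, 3, 0, 2, 2], [1, 1, 1, 3, 1, 3, 1, 2, 2, 2, 0, 2, 0, 2], [1, 1, 1, 2, 0, 2, 0, 2, 2, 2, 1, 3, 1, 3], [1, 1, 3, 1, 3, 1, 2, 1, 1, 3, 1, 3, 1, 2], [1, 1, 3, 1, 3, 1, 2, 1, 2, 0, 2, 0, 2, 2], [1, 1, 3, 1, 3, 1, 2, 0, 3, 1, 3, 1, 3, 3], [1, 1, 3, 1, 3, 1, 2, 0, 0, 2, 0, 2, 0, 3], [1, 1, 3, 1, 2, 1, 1, 2, 2, 0, 2, 1, 2, 2], [1, 1, 3, 3, 1, 3, 1, 3, 0, 2, 1, 3, 1, 3], [1, 1, 2, 1, 1, 2, 0, 3, 0, 3, 0, 3, 0, 2], [1, 1, 2, 1, 3, 1, 1, 2, 2, 1, 2, 0, 2, 2], [1, 1, 2, 1, 3, 1, 3, 1, 1, 2, 1, 3, 1, 3], [1, 1, 2, 0, 2, 0, 2,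 2, 2, 2, 0, 2, 0, 2], [1, 1, 2, 2, 0, 2, 0, 2, 1, 2, 1, 3, 1, 3], [1, 3, 1, 3, 3, 0, 3, 1, 3, 1, 3, 3, 0, 3], [1, 3, 1, 3, 0, 3, 3, 1, 3, 1, 3, 0, 3, 3], [1, 3, 0, 3, 0, 3, 0, 3, 1, 2, 2, 1, 2, 2]]

/-- the inverse pair words -/
def pairL : List (List ℕ) := [[0, 1], [1, 0], [2, 3], [3, 2], [4, 5], [5, 4]]

/-- the symbol relators -/
def symL : List (List ℕ) := [[1, 3, 5, 3, 1, 2, 2, 2, 5, 5, 2, 2, 2], [4, 0, 2, 2, 0, 2, 5, 1, 3, 0, 3, 1, 1, 1, 3, 0, 3, 0], [1, 1, 1, 1, 3, 4, 3, 3, 0, 3, 1, 2, 1, 1, 3, 0, 4, 3], [3, 4, 3, 4, 3, 4], [1, 3, 4, 3, 1, 3, 4, 3, 1, 3, 4, 3], [1, 3, 3, 3, 1, 2, 5, 2, 1, 3, 3, 3, 1, 2, 5, 2], [1, 1, 1, 3, 1, 1, 3, 0, 0, 5, 3, 1, 1, 2, 1, 3, 1, 4], [1, 1, 1, 3, 0, 3, 1, 5, 1, 3, 3, 1, 3, 4, 0, 3, 0, 3]]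

/-- the other central relators -/
def cenL : List (List ℕ) := [[1, 1, 3, 1, 3, 1, 1, 3, 1, 3], [1, 1, 2, 1, 3, 3, 0, 0, 3, 0, 2, 2], [1, 3, 0, 3, 0, 3, 0, 3, 1, 2, 2, 1, 2, 2], [1, 1, 1, 1, 3, 1, 3, 1, 2, 2, 1, 3, 1, 3]]

/-- the unit vectors -/
def unitL : List (List ℕ) := [[1, 0, 0, 0, 0, 0, 0, 0], [0, 1, 0, 0, 0, 0, 0, 0], [0, 0, 1, 0, 0, 0, 0, 0], [0, 0, 0, 1, 0, 0, 0, 0], [0, 0, 0, 0, 1, 0, 0, 0], [0, 0, 0, 0, 0, 1, 0, 0], [0, 0, 0, 0, 0, 0, 1, 0], [0, 0, 0, 0, 0, 0, 0, 1]]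

theorem seed_cases : ∀ p ∈ seedL, (p.2 = List.replicate 8 0 ∧ p.1 ∈ exactL ++ pairL) ∨
    p ∈ List.zip symL unitL := by
  decide

theorem rel_cases : ∀ w ∈ relL, w ∈ exactL ++ pairL ∨ w ∈ symL ++ cenL := by
  decide

/-- the pairs of words giving the relations, with the difference of their twists -/
def relPairs : List (ℕ × ℕ × List ℕ) := [(5, 50, [0, 0, 0, 0, 0, 0, 0, 2764799]), (5, 51, [0, 2764799, 0, 0, 0, 0, 0, 0]), (5, 52, [0, 0, 0, 0, 0, 0, 2, 0]), (14, 53, [0, 0, 2764799, 0, 0, 2764799, 0, 2764799]), (35, 54, [0, 2764799, 0, 0, 0, 0, 2764799, 1]), (48, 55, [0, 88, 5, 2764799, 3, 8, 0, 8]), (44, 56, [2764799, 52, 2764797, 0, 2764799, 2764797, 2, 54]), (48, 57, [2764797, 2764693, 2764797, 0, 1, 3, 1, 7]), (17, 58, [2764524, 2755776, 2751608, 2764464, 2764105,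 2750469, 2758826, 8269])]

/-- check of a relation pair: same relator word, twists differing by `v` -/
noncomputable def relChk (p : ℕ × ℕ × List ℕ) : Bool :=
  match WT.get words p.1, WT.get words p.2.1 with
  | some (wd1, true), some (wd2, true) => decide (wd1 = wd2) && decide (Ev p.2.1 = nadd NN (Ev p.1) p.2.2) &&
      decide (p.1 < 59) && decide (p.2.1 < 59)
  | _, _ => false

theorem rel_chk : ∀ p ∈ relPairs, relChk p = true := by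
  decide +kernel

end Cfsg.Agent.Lib.H16.G24M.C2
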