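import Cfsg.Agent.Lib.H16.G24M.C2.StepsA
import Cfsg.Agent.Lib.H16.G24M.C2.StepsB
import Cfsg.Agent.Lib.H16.G24M.C2.StepsC
import Cfsg.Agent.Lib.H16.G24M.C2.Rows

set_option autoImplicit false
set_option maxRecDepth 100000

/-! # Running the monomial certificate (generated) -/

namespace Cfsg.Agent.Lib.H16.G24M.C2

open Cfsg.Agent.Lib.H17.CosetCert (BT WT)
open Cfsg.Agent.Lib.H17.MonoCert
open Cfsg.Agent.Lib.H16.G24M

variable {G Q A : Type*} [Group G] [MulAction G Q] [Group A] [MulAction A Q]
  [SMulCommClass G A Q] (tw : List ℕ → A) (γ : ℕ → G)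

theorem run (hfree : ∀ (α β : A) (q : Q), α • q = β • q → α = β)
    (htw : TwOK (nadd NN) (List.replicate 8 0) neq tw) (q0 : Q) (hw : WordsOK Ev tw γ q0 words 50) :
    Inv F Ev tw γ q0 words 24192 4032 59 := by
  have h0 := inv_zero F Ev tw γ q0 words 50 hw
  have h1 := checkSteps_sound (nadd NN) (List.replicate 8 0) neq F Ev 6 65536 tw γ hfree htw q0 words 50 hw steps0 0 1 50 1500 695 50 h0 chk0
  have h2 := checkSteps_sound (nadd NN) (List.replicate 8 0) neq F Ev 6 65536 tw γ hfree htw q0 words 50 hw steps1 1500 695 50 3000 1385 50 h1 chk1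
  have h3 := checkSteps_sound (nadd NN) (List.replicate 8 0) neq F Ev 6 65536 tw γ hfree htw q0 words 50 hw steps2 3000 1385 50 4500 2045 50 h2 chk2
  have h4 := checkSteps_sound (nadd NN) (List.replicate 8 0) neq F Ev 6 65536 tw γ hfree htw q0 words 50 hw steps3 4500 2045 50 6000 2747 50 h3 chk3
  have h5 := checkSteps_sound (nadd NN) (List.replicate 8 0) neq F Ev 6 65536 tw γ hfree htw q0 words 50 hw steps4 6000 2747 50 7500 3437 50 h4 chk4
  have h6 := checkSteps_sound (nadd NN) (List.replicate 8 0) neq F Ev 6 65536 tw γ hfree htw q0 words 50 hw steps5 7500 3437 50 9000 4032 50 h5 chk5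
  have h7 := checkSteps_sound (nadd NN) (List.replicate 8 0) neq F Ev 6 65536 tw γ hfree htw q0 words 50 hw steps6 9000 4032 50 10500 4032 50 h6 chk6
  have h8 := checkSteps_sound (nadd NN) (List.replicate 8 0) neq F Ev 6 65536 tw γ hfree htw q0 words 50 hw steps7 10500 4032 50 12000 4032 50 h7 chk7
  have h9 := checkSteps_sound (nadd NN) (List.replicate 8 0) neq F Ev 6 65536 tw γ hfree htw q0 words 50 hw steps8 12000 4032 50 13500 4032 50 h8 chk8
  have h10 := checkSteps_sound (nadd NN) (List.replicate 8 0) neq F Ev 6 65536 tw γ hfree htw q0 words 50 hw steps9 13500 4032 50 15000 4032 50 h9 chk9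
  have h11 := checkSteps_sound (nadd NN) (List.replicate 8 0) neq F Ev 6 65536 tw γ hfree htw q0 words 50 hw steps10 15000 4032 50 16500 4032 50 h10 chk10
  have h12 := checkSteps_sound (nadd NN) (List.replicate 8 0) neq F Ev 6 65536 tw γ hfree htw q0 words 50 hw steps11 16500 4032 50 18000 4032 50 h11 chk11
  have h13 := checkSteps_sound (nadd NN) (List.replicate 8 0) neq F Ev 6 65536 tw γ hfree htw q0 words 50 hw steps12 18000 4032 50 19500 4032 50 h12 chk12
  have h14 := checkSteps_sound (nadd NN) (List.replicate 8 0) neq F Ev 6 65536 tw γ hfree htw q0 words 50 hw steps13 19500 4032 50 21000 4032 50 h13 chk13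
  have h15 := checkSteps_sound (nadd NN) (List.replicate 8 0) neq F Ev 6 65536 tw γ hfree htw q0 words 50 hw steps14 21000 4032 50 22500 4032 50 h14 chk14
  have h16 := checkSteps_sound (nadd NN) (List.replicate 8 0) neq F Ev 6 65536 tw γ hfree htw q0 words 50 hw steps15 22500 4032 50 24000 4032 50 h15 chk15
  have h17 := checkSteps_sound (nadd NN) (List.replicate 8 0) neq F Ev 6 65536 tw γ hfree htw q0 words 50 hw steps16 24000 4032 50 24192 4032 59 h16 chk16
  exact h17

end Cfsg.Agent.Lib.H16.G24M.C2
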